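import Groth.Agent.Lib.GenBdd.Induct
import Groth.Agent.Lib.ShrinkTri.QCohGen
import Groth.Agent.Lib.FinDimBrown.Small
import Groth.Agent.S11115

/-!
# Boundedness in `D_QCoh` is detected by a perfect generator
-/

set_option autoImplicit false
set_option linter.unusedSectionVars false
set_option linter.style.haveILetI false

universe u

open CategoryTheory Limits AlgebraicGeometry Pretriangulated Filter

attribute [local instance] HasDerivedCategory.standard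

namespace Groth.Agent.Lib.GenBdd

open Groth.Agent.Lib Groth.Agent.Lib.DerivedOX Groth.Agent.Lib.Gen43
open Groth.Agent.Lib.ShrinkTri (QCohGen.L QCohGen.Sm)

variable {X : Scheme.{u}} [CompactSpace X] [QuasiSeparatedSpace X]

theorem pushZd_atBot : PushZd atBot X := fun S _ hS F _ h => by
  haveI := Restrict.quasiCompact_ι (X := X) hS
  obtain ⟨a, ha⟩ := eventually_atBot.1 h
  haveI : F.IsGE a := (DerivedCategory.isGE_iff F a).2 fun i hi => ha i hi.le
  haveI := Groth.Agent.S11115.result S.ι F a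
  exact eventually_atBot.2 ⟨a - 1, fun i hi => DerivedCategory.isZero_of_isGE _ a i (by omega)⟩

theorem pushZd_atTop : PushZd atTop X := fun S _ hS F hF h => by
  haveI := Restrict.quasiCompact_ι (X := X) hS
  obtain ⟨b, hb⟩ := eventually_atTop.1 h
  obtain ⟨N, hN⟩ := RpushQCoh.exists_bound S.ι
  have hle : (F⟦b⟧).IsLE 0 := (DerivedCategory.isLE_iff _ _).2 fun i hi =>
    PerfVanish.Thms.isZero_HD_shift (hb (b + i) (by omega))
  refine eventually_atTop.2 ⟨N + b, fun m hm => ?_⟩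
  have hz := hN _ (CompactUnit.qcD_shift F b hF) hle (m - b) (by omega)
  exact (hz.of_iso ((DerivedCategory.homologyFunctor _ (m - b)).mapIso
    (((DCoh.Rpush S.ι).commShiftIso b).app F).symm)).of_iso
    ((((DerivedCategory.homologyFunctor X.Modules 0).shiftIso b (m - b) m (by omega)).app
      ((DCoh.Rpush S.ι).obj F)).symm)

/-- Eventual vanishing passes from a generator to every perfect object. -/
theorem hv_of_generator {l : Filter ℤ} (hl : ShiftInv l) {G : DCoh.D X} (hG : DCoh.IsPerfect G)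
    (hgen : ∀ E : DCoh.D X, DCoh.IsQCohD E → (∀ (n : ℤ) (φ : G⟦n⟧ ⟶ E), φ = 0) → IsZero E)
    {E : DCoh.D X} (h : ∀ᶠ i in l, Hv G E i) {P : DCoh.D X} (hP : DCoh.IsPerfect P) :
    ∀ᶠ i in l, Hv P E i := by
  let C : ObjectProperty (DCoh.D X) := fun Q => ∀ᶠ i in l, Hv Q E i
  haveI : C.IsStableUnderShift ℤ := ⟨fun n => ⟨fun Q hQ => by
    change ∀ᶠ i in l, Hv (Q⟦n⟧) E i
    refine ((hl (-n)).eventually hQ).mono fun i hi => ?_
    refine (DerCat.Tri.hom_shift_left_eq_zero_iff Q (E⟦i⟧) n).2 fun f => ?_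
    let e := (shiftFunctorAdd (DCoh.D X) i (-n)).app E
    exact (cancel_mono e.inv).1 ((hi _).trans zero_comp.symm)⟩⟩
  haveI : C.IsStableUnderRetracts := ⟨fun r hQ => hQ.mono fun i hi φ => by
    calc φ = r.i ≫ r.r ≫ φ := by rw [← Category.assoc, r.retract, Category.id_comp]
      _ = 0 := by rw [hi (r.r ≫ φ), comp_zero]⟩
  haveI : C.IsTriangulatedClosed₂ := ObjectProperty.IsTriangulatedClosed₂.mk' fun T hT h₁ h₃ =>
    (Eventually.and h₁ h₃).mono fun i hi φ => by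
      obtain ⟨g, hg⟩ := Triangle.yoneda_exact₂ T hT φ (hi.1 _)
      rw [hg, hi.2 g, comp_zero]
  haveI : C.ContainsZero := ⟨⟨_, isZero_zero (DCoh.D X), Eventually.of_forall fun i φ =>
    (isZero_zero _).eq_of_src _ _⟩⟩
  haveI : C.IsTriangulated := { }
  let EX := ShrinkHoms.equivalence.{u} (DCoh.DQCoh X)
  letI : EX.functor.CommShift ℤ := ShrinkTri.commShift
  letI : EX.inverse.CommShift ℤ := EX.commShiftInverse ℤ
  haveI := EX.commShift_of_functor ℤ
  haveI : EX.functor.IsTriangulated := ShrinkTri.isTriangulated_functor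
  haveI : EX.toAdjunction.CommShift ℤ := inferInstance
  haveI : EX.inverse.IsTriangulated := EX.toAdjunction.isTriangulated_rightAdjoint
  let F : ShrinkTri.QCohGen.Sm X ⥤ DCoh.D X := EX.inverse ⋙ (DCoh.IsQCohD (X := X)).ι
  haveI : (C.inverseImage F).IsStableUnderRetracts := ⟨fun r hY => C.prop_of_retract (r.map F) hY⟩
  have hGq := Perfect.QCohD.isQCohD_of_isPerfect hG
  have hPq := Perfect.QCohD.isQCohD_of_isPerfect hP
  have hmem := FinDimBrown.Small.compact_mem_envelope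
    (fun _ : PUnit.{u + 1} => (ShrinkTri.QCohGen.L X).obj ⟨G, hGq⟩)
    (fun _ => ShrinkTri.QCohGen.isCompactObject ⟨G, hGq⟩ hG)
    (ShrinkTri.QCohGen.generates hGq hgen) _ (ShrinkTri.QCohGen.isCompactObject ⟨P, hPq⟩ hP)
  have hle : ObjectProperty.triangEnvelope
      (fun Z : ShrinkTri.QCohGen.Sm X => ∃ _ : PUnit.{u + 1}, Z = (ShrinkTri.QCohGen.L X).obj ⟨G, hGq⟩) ≤
      C.inverseImage F := by
    rw [ObjectProperty.triangEnvelope_le_iff]
    rintro Z ⟨_, rfl⟩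
    exact C.prop_of_retract (Retract.ofIso ((DCoh.IsQCohD (X := X)).ι.mapIso
      (EX.unitIso.app ⟨G, hGq⟩)).symm) h
  exact C.prop_of_retract (Retract.ofIso ((DCoh.IsQCohD (X := X)).ι.mapIso
    (EX.unitIso.app ⟨P, hPq⟩))) (hle _ hmem)

/-- Eventual vanishing of cohomology is equivalent to that of maps from a generator. -/
theorem eventually_iff {l : Filter ℤ} (hl : ShiftInv l) (hpush : PushZd l X) {G : DCoh.D X}
    (hG : DCoh.IsPerfect G)
    (hgen : ∀ E : DCoh.D X, DCoh.IsQCohD E → (∀ (n : ℤ) (φ : G⟦n⟧ ⟶ E), φ = 0) → IsZero E)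
    {E : DCoh.D X} (hE : DCoh.IsQCohD E) :
    (∀ᶠ i in l, IsZero (DCoh.HD E i)) ↔ ∀ᶠ i in l, ∀ φ : G⟦-i⟧ ⟶ E, φ = 0 := by
  have key : (∀ᶠ i in l, IsZero (DCoh.HD E i)) ↔ ∀ᶠ i in l, Hv G E i := by
    refine ⟨hv_eventually hl hG hE, fun h => ?_⟩
    obtain ⟨P, hP, hd⟩ := exists_detecting hl hpush
    exact hd E hE (hv_of_generator hl hG hgen h hP)
  rw [key]
  exact eventually_congr (Eventually.of_forall fun i =>
    DerCat.Tri.hom_shift_right_eq_zero_iff G E i)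

theorem bddBelow_iff {G : DCoh.D X} (hG : DCoh.IsPerfect G)
    (hgen : ∀ E : DCoh.D X, DCoh.IsQCohD E → (∀ (n : ℤ) (φ : G⟦n⟧ ⟶ E), φ = 0) → IsZero E)
    {E : DCoh.D X} (hE : DCoh.IsQCohD E) :
    (∃ a : ℤ, E.IsGE a) ↔ ∃ N : ℤ, ∀ i : ℤ, i ≤ N → ∀ φ : G⟦-i⟧ ⟶ E, φ = 0 := by
  rw [← eventually_atBot (p := fun i => ∀ φ : G⟦-i⟧ ⟶ E, φ = 0),
    ← eventually_iff shiftInv_atBot pushZd_atBot hG hgen hE, eventually_atBot]
  exact ⟨fun ⟨a, ha⟩ => ⟨a - 1, fun i hi => DerivedCategory.isZero_of_isGE E a i (by omega)⟩,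
    fun ⟨a, ha⟩ => ⟨a, (DerivedCategory.isGE_iff E a).2 fun i hi => ha i hi.le⟩⟩

theorem bddAbove_iff {G : DCoh.D X} (hG : DCoh.IsPerfect G)
    (hgen : ∀ E : DCoh.D X, DCoh.IsQCohD E → (∀ (n : ℤ) (φ : G⟦n⟧ ⟶ E), φ = 0) → IsZero E)
    {E : DCoh.D X} (hE : DCoh.IsQCohD E) :
    (∃ b : ℤ, E.IsLE b) ↔ ∃ N : ℤ, ∀ i : ℤ, N ≤ i → ∀ φ : G⟦-i⟧ ⟶ E, φ = 0 := by
  rw [← eventually_atTop (p := fun i => ∀ φ : G⟦-i⟧ ⟶ E, φ = 0),
    ← eventually_iff shiftInv_atTop pushZd_atTop hG hgen hE, eventually_atTop]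
  exact ⟨fun ⟨a, ha⟩ => ⟨a + 1, fun i hi => DerivedCategory.isZero_of_isLE E a i (by omega)⟩,
    fun ⟨a, ha⟩ => ⟨a, (DerivedCategory.isLE_iff E a).2 fun i hi => ha i hi.le⟩⟩

end Groth.Agent.Lib.GenBdd
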