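import Groth.Agent.Lib.Gen43.Generator
import Groth.Agent.Lib.PerfVanish.Thms
import Groth.Agent.Lib.DerivedOX.RpushTriangulated

/-!
# Boundedness detected by maps from perfect objects: the basic predicates

`Hv K F i`: all maps `K ⟶ F[i]` vanish. `Zd l W E`: eventually along the filter `l` on `ℤ` the
cohomology sheaves of `E` vanish on `W`. The filters are `atBot` and `atTop`.
-/

set_option autoImplicit false
set_option linter.unusedSectionVars false
set_option linter.style.haveILetI false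

universe u

open CategoryTheory Limits AlgebraicGeometry Pretriangulated Filter

attribute [local instance] HasDerivedCategory.standard

namespace Groth.Agent.Lib.GenBdd

open Groth.Agent.Lib Groth.Agent.Lib.DerivedOX

variable {X U : Scheme.{u}}

/-- All maps `K ⟶ F[i]` vanish. -/
def Hv (K F : DCoh.D X) (i : ℤ) : Prop := ∀ φ : K ⟶ F⟦i⟧, φ = 0

lemma Hv.of_iso {K F F' : DCoh.D X} {i : ℤ} (h : Hv K F i) (e : F ≅ F') : Hv K F' i := fun φ => by
  rw [← cancel_mono (e.inv⟦i⟧'), zero_comp]; exact h _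

lemma Hv.of_iso_left {K K' F : DCoh.D X} {i : ℤ} (h : Hv K F i) (e : K ≅ K') : Hv K' F i := fun φ => by
  rw [← cancel_epi e.hom, comp_zero]; exact h _

lemma Hv.of_shift {K F : DCoh.D X} {a b c : ℤ} (hc : a + b = c) (h : Hv K (F⟦a⟧) b) : Hv K F c :=
  fun φ => by
  let e := (shiftFunctorAdd' (DCoh.D X) a b c hc).app F
  rw [← cancel_mono e.hom, zero_comp]
  exact h _

lemma hv₃ {K : DCoh.D X} {T : Triangle (DCoh.D X)} (hT : T ∈ distTriang _) {i : ℤ}
    (h₂ : Hv K T.obj₂ i) (h₁ : Hv K T.obj₁ (i + 1)) : Hv K T.obj₃ i := fun φ => by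
  let T' := (Triangle.shiftFunctor (DCoh.D X) i).obj T
  have hT' : T' ∈ distTriang _ := Triangle.shift_distinguished T hT i
  obtain ⟨ψ, hψ⟩ := Triangle.coyoneda_exact₃ T' hT' φ (by
    let e := (shiftFunctorAdd (DCoh.D X) i (1 : ℤ)).app T.obj₁
    exact (cancel_mono e.inv).1 ((h₁ _).trans zero_comp.symm))
  rw [hψ]
  exact (congrArg (· ≫ _) (h₂ ψ)).trans zero_comp

lemma hv₁ {K : DCoh.D X} {T : Triangle (DCoh.D X)} (hT : T ∈ distTriang _) {i : ℤ}
    (h₂ : Hv K T.obj₂ (i + 1)) (h₃ : Hv K T.obj₃ i) : Hv K T.obj₁ (1 + i) :=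
  Hv.of_shift rfl (hv₃ (rot_of_distTriang _ hT) h₃ h₂)

lemma hv₂ {K : DCoh.D X} {T : Triangle (DCoh.D X)} (hT : T ∈ distTriang _) {i : ℤ}
    (h₁ : Hv K T.obj₁ i) (h₃ : Hv K T.obj₃ i) : Hv K T.obj₂ i := fun φ => by
  obtain ⟨ψ, hψ⟩ := Triangle.coyoneda_exact₂ _ (Triangle.shift_distinguished T hT i) φ (h₃ _)
  rw [hψ]
  exact (congrArg (· ≫ _) (h₁ ψ)).trans zero_comp

/-- Vanishing at one degree of the cohomology sheaf, on `W`. -/
def Z0 (W : X.Opens) (E : DCoh.D X) (i : ℤ) : Prop := ∀ x ∈ W, x ∉ CohB1.support (DCoh.HD E i)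

/-- Eventual vanishing of the cohomology on `W`. -/
def Zd (l : Filter ℤ) (W : X.Opens) (E : DCoh.D X) : Prop := ∀ᶠ i in l, Z0 W E i

lemma isZero_restrict_iff (j : U ⟶ X) [IsOpenImmersion j] (E : DCoh.D X) (i : ℤ) :
    IsZero (DCoh.HD ((DCoh.restrictD j).obj E) i) ↔ Z0 j.opensRange E i := by
  have e := Perfect.Coherent.homologyIso j E i
  constructor
  · intro h x hx hxs
    obtain ⟨w, rfl⟩ := hx
    have h' := Modules.Support.support_eq_empty_iff.2 (h.of_iso e.symm)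
    rw [Modules.Support.support_restrict] at h'
    exact (Set.eq_empty_iff_forall_notMem.1 h' w) hxs
  · intro h
    exact (Modules.Support.support_eq_empty_iff.1 ((Modules.Support.support_restrict j _).trans
      (Set.eq_empty_of_forall_notMem fun w hw => h _ ⟨w, rfl⟩ hw))).of_iso e

lemma zd_restrict_iff (l : Filter ℤ) (j : U ⟶ X) [IsOpenImmersion j] (E : DCoh.D X) :
    (∀ᶠ i in l, IsZero (DCoh.HD ((DCoh.restrictD j).obj E) i)) ↔ Zd l j.opensRange E :=
  ⟨fun h => h.mono fun i hi => (isZero_restrict_iff j E i).1 hi,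
    fun h => h.mono fun i hi => (isZero_restrict_iff j E i).2 hi⟩

lemma zd_ι (l : Filter ℤ) (W : X.Opens) (E : DCoh.D X) :
    (∀ᶠ i in l, IsZero (DCoh.HD ((DCoh.restrictD W.ι).obj E) i)) ↔ Zd l W E := by
  rw [zd_restrict_iff, Scheme.Opens.opensRange_ι]

lemma Zd.mono {l : Filter ℤ} {W W' : X.Opens} {E : DCoh.D X} (h : Zd l W E) (hW : W' ≤ W) :
    Zd l W' E := Filter.Eventually.mono h fun _ hi x hx => hi x (hW hx)

lemma Zd.sup {l : Filter ℤ} {W W' : X.Opens} {E : DCoh.D X} (h : Zd l W E) (h' : Zd l W' E) :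
    Zd l (W ⊔ W') E := (h.and h').mono fun i hi x hx => by
  rcases hx with hx | hx
  exacts [hi.1 x hx, hi.2 x hx]

lemma zd_of_van {l : Filter ℤ} {W : X.Opens} {E : DCoh.D X} (h : Gen43.Restrict.Van W E) :
    Zd l W E := Eventually.of_forall fun i x hx => h i x hx

lemma isZero_HD₂ {T : Triangle (DCoh.D X)} (hT : T ∈ distTriang _) {i : ℤ}
    (h₁ : IsZero (DCoh.HD T.obj₁ i)) (h₃ : IsZero (DCoh.HD T.obj₃ i)) :
    IsZero (DCoh.HD T.obj₂ i) :=
  (DerivedCategory.HomologySequence.exact₂ T hT i).isZero_X₂ (h₁.eq_of_src _ _) (h₃.eq_of_tgt _ _)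

lemma zd₂ {l : Filter ℤ} {W : X.Opens} {T : Triangle (DCoh.D X)} (hT : T ∈ distTriang _)
    (h₁ : Zd l W T.obj₁) (h₃ : Zd l W T.obj₃) : Zd l W T.obj₂ := by
  rw [← zd_ι] at h₁ h₃ ⊢
  exact (h₁.and h₃).mono fun i hi =>
    isZero_HD₂ ((DCoh.restrictD W.ι).map_distinguished _ hT) hi.1 hi.2

/-- Shift invariance of a filter. -/
def ShiftInv (l : Filter ℤ) : Prop := ∀ c : ℤ, Tendsto (fun i => i + c) l l

lemma shiftInv_atBot : ShiftInv (atBot : Filter ℤ) := fun c =>
  tendsto_atBot_add_const_right _ c tendsto_id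

lemma shiftInv_atTop : ShiftInv (atTop : Filter ℤ) := fun c =>
  tendsto_atTop_add_const_right _ c tendsto_id

lemma zd_shift {l : Filter ℤ} (hl : ShiftInv l) {W : X.Opens} {E : DCoh.D X} (h : Zd l W E) (n : ℤ) :
    Zd l W (E⟦n⟧) := by
  rw [← zd_ι] at h ⊢
  refine ((hl n).eventually h).mono fun i hi => ?_
  exact (PerfVanish.Thms.isZero_HD_shift (by rwa [add_comm] at hi)).of_iso
    ((DerivedCategory.homologyFunctor _ i).mapIso (((DCoh.restrictD W.ι).commShiftIso n).app E))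

/-- Maps from a perfect object see only a bounded range of cohomology. -/
theorem hv_eventually [CompactSpace X] [QuasiSeparatedSpace X] {l : Filter ℤ} (hl : ShiftInv l)
    {K F : DCoh.D X} (hK : DCoh.IsPerfect K) (hF : DCoh.IsQCohD F)
    (h : ∀ᶠ i in l, IsZero (DCoh.HD F i)) : ∀ᶠ i in l, Hv K F i := by
  obtain ⟨a, b, -, hv⟩ := PerfVanish.Thms.exists_range hK
  have : ∀ᶠ i in l, ∀ j ∈ Finset.Icc a b, IsZero (DCoh.HD F (i + j)) :=
    (eventually_all_finset _).2 fun j _ => (hl j).eventually h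
  exact this.mono fun i hi φ => hv _ (CompactUnit.qcD_shift F i hF)
    (fun j h1 h2 => PerfVanish.Thms.isZero_HD_shift (hi j (Finset.mem_Icc.2 ⟨h1, h2⟩))) φ

end Groth.Agent.Lib.GenBdd
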