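import Groth.Agent.Lib.GenBdd.Basic

/-!
# A perfect object whose maps detect boundedness of objects of `D_QCoh`
-/

set_option autoImplicit false
set_option linter.unusedSectionVars false
set_option linter.style.haveILetI false

universe u

open CategoryTheory Limits AlgebraicGeometry Pretriangulated Filter

attribute [local instance] HasDerivedCategory.standard

namespace Groth.Agent.Lib.GenBdd

open Groth.Agent.Lib Groth.Agent.Lib.DerivedOX Groth.Agent.Lib.Gen43
open Groth.Agent.Lib.Gen43.Restrict Groth.Agent.Lib.Gen43.Glue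
open Groth.Agent.Lib.Gen43.Affine (S T spec Φ)

variable {A : Type u} [CommRing A]

/-- The Koszul object detects single cohomology sheaves of objects supported off its open. -/
theorem spec_detect (W : (S A).Opens) (hW : IsCompact (W : Set (S A))) :
    ∃ K : DCoh.D (S A), DCoh.IsPerfect K ∧ Van W K ∧ ∀ E : DCoh.D (S A), DCoh.IsQCohD E → Van W E →
      ∀ n : ℤ, Hv K E n → IsZero (DCoh.HD E n) := by
  obtain ⟨fs, rfl⟩ := Affine.exists_list W hW
  refine ⟨(T A).obj (KoszulOrth36.Algebra.X fs), Affine.isPerfect_T (Ring.pf_koszul fs),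
    van_of_isZero (KoszulOrth36.Sheaf.isZero_restrict_koszul A fs), fun E hE hEW n h => ?_⟩
  obtain ⟨C, ⟨eE⟩⟩ := TildeEquiv.exists_preimage (CommRingCat.of A) E hE
  have htor := KoszulOrth36.Sheaf.tors_of_isZero_restrict A fs C (hEW.of_iso eE.symm).isZero
  haveI := TildeEquiv.faithful (CommRingCat.of A)
  have h' : ∀ f : ((T A).obj (KoszulOrth36.Algebra.X fs))⟦-n⟧ ⟶ E, f = 0 :=
    (DerCat.Tri.hom_shift_right_eq_zero_iff _ E n).1 h
  have h1 : Subsingleton ((KoszulOrth36.Algebra.X fs)⟦-n⟧ ⟶ C) :=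
    subsingleton_of_forall_eq 0 fun φ => (T A).map_injective (by
      have := h' (((T A).commShiftIso (-n)).inv.app _ ≫ (T A).map φ ≫ eE.hom)
      rw [Functor.map_zero]
      exact (cancel_mono eE.hom).1 ((cancel_epi (((T A).commShiftIso (-n)).inv.app _)).1
        (by simpa using this)))
  have h2 := KoszulOrth36.Algebra.subsingleton_HD C n fs htor h1
  exact (IsZero.of_iso (Functor.map_isZero _ (ModuleCat.isZero_iff_subsingleton.2 h2))
    (KoszulOrth36.Sheaf.HI (CommRingCat.of A) C n)).of_iso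
    ((DerivedCategory.homologyFunctor _ n).mapIso eE.symm)

variable {X : Scheme.{u}}

/-- The same on any affine scheme. -/
theorem affine_detect [IsAffine X] (W : X.Opens) (hW : IsCompact (W : Set X)) :
    ∃ K : DCoh.D X, DCoh.IsPerfect K ∧ Van W K ∧ ∀ E : DCoh.D X, DCoh.IsQCohD E → Van W E →
      ∀ n : ℤ, Hv K E n → IsZero (DCoh.HD E n) := by
  obtain ⟨K, hK, hKW, hd⟩ := spec_detect (spec X ⁻¹ᵁ W) (Affine.isCompact_preimage W hW)
  let e := (Φ X).objObjPreimageIso K
  refine ⟨(Φ X).objPreimage K, (Affine.isPerfect_Φ_iff _).1 (Perfect.Triangle.isPerfect_of_iso e.symm hK),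
    (Affine.van_Φ_iff W _).1 (hKW.of_iso e.symm), fun E hE hEW n h => ?_⟩
  have h0 := hd ((Φ X).obj E) (CompactUnit.isQCohD_restrictD _ hE) ((Affine.van_Φ_iff W E).2 hEW) n
    fun φ => by
      obtain ⟨ψ, hψ⟩ := (Φ X).map_surjective (e.hom ≫ φ ≫ ((Φ X).commShiftIso n).inv.app E)
      rw [h ψ, Functor.map_zero] at hψ
      exact (cancel_mono (((Φ X).commShiftIso n).inv.app E)).1
        ((cancel_epi e.hom).1 (by rw [← hψ, zero_comp, comp_zero]))
  have hz := (isZero_restrict_iff (spec X) E n).1 h0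
  refine Modules.Support.support_eq_empty_iff.1 (Set.eq_empty_of_forall_notMem fun x => hz x ?_)
  rw [Scheme.Hom.opensRange_of_isIso]; trivial

/-- The bound on derived direct images needed for the filter `l`. -/
def PushZd (l : Filter ℤ) (X : Scheme.{u}) : Prop :=
  ∀ (S : X.Opens) [DCoh.HasRpush S.ι], IsCompact (S : Set X) →
    ∀ F : DCoh.D (S : Scheme.{u}), DCoh.IsQCohD F → (∀ᶠ i in l, IsZero (DCoh.HD F i)) →
      ∀ᶠ i in l, IsZero (DCoh.HD ((DCoh.Rpush S.ι).obj F) i)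

/-- The induction hypothesis. -/
def Det (l : Filter ℤ) (S : X.Opens) : Prop :=
  ∃ P : DCoh.D X, DCoh.IsPerfect ((DCoh.restrictD S.ι).obj P) ∧
    ∀ E : DCoh.D X, DCoh.IsQCohD E →
      (∀ᶠ i in l, Hv ((DCoh.restrictD S.ι).obj P) ((DCoh.restrictD S.ι).obj E) i) → Zd l S E

variable [CompactSpace X] [QuasiSeparatedSpace X]

lemma hv_le {S Z : X.Opens} (hSZ : S ≤ Z) {P E : DCoh.D X} (i : ℤ) (ψ : P ⟶ E⟦i⟧)
    (h : Hv ((DCoh.restrictD Z.ι).obj P) ((DCoh.restrictD Z.ι).obj E) i) :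
    (DCoh.restrictD S.ι).map ψ = 0 :=
  Generator.restrict_eq_zero_of_le hSZ ψ
    ((cancel_mono (((DCoh.restrictD Z.ι).commShiftIso i).hom.app E)).1 ((h _).trans zero_comp.symm))

theorem det_sup {l : Filter ℤ} (hl : ShiftInv l) (hpush : PushZd l X) {S V : X.Opens}
    (hS : IsCompact (S : Set X)) (hV : IsAffineOpen V) (h : Det l S) : Det l (S ⊔ V) := by
  obtain ⟨P₀, hP₀, hdet⟩ := h
  haveI : IsAffine (V : Scheme.{u}) := hV
  haveI := quasiCompact_ι (X := X) hV.isCompact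
  haveI := quasiCompact_ι (X := X) hS
  haveI := Exists.hasRpush S.ι
  have hT' : IsCompact ((⊥ : X.Opens) : Set X) := by
    rw [TopologicalSpace.Opens.coe_bot]; exact isCompact_empty
  have hW : IsCompact ((V.ι ⁻¹ᵁ S : (V : Scheme.{u}).Opens) : Set (V : Scheme.{u})) :=
    V.ι.isCompact_preimage hS
  obtain ⟨K, hK, hKS, hKd⟩ := affine_detect (V.ι ⁻¹ᵁ S) hW
  obtain ⟨R, -, i, p, hRS, hRV, -, hip, -⟩ := exists_step ⊥ hT' hS hV
    (Perfect.QCohD.isQCohD_of_isPerfect (Affine.isPerfect_oneD' X)) hP₀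
    (fun _ x hx => (show Scheme.Opens.ι S x ∈ (⊥ : X.Opens) from hx).elim)
    (0 : _ ⟶ (DCoh.restrictD S.ι).obj (CompactUnit.oneD X))
  let Z : X.Opens := S ⊔ V
  let J := (ez V.ι).obj K
  have hJS : Van S J := van_ez V S hKS
  have hbip : ∀ W : X.Opens, DCoh.IsPerfect ((DCoh.restrictD W.ι).obj R) →
      DCoh.IsPerfect ((DCoh.restrictD W.ι).obj J) → DCoh.IsPerfect ((DCoh.restrictD W.ι).obj (R ⊞ J)) :=
    fun W h₁ h₂ => Perfect.Triangle.isPerfect₂
      ((DCoh.restrictD W.ι).map_distinguished _ (binaryBiproductTriangle_distinguished R J)) h₁ h₂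
  have hZperf : ∀ Q : DCoh.D X, DCoh.IsPerfect ((DCoh.restrictD S.ι).obj Q) →
      DCoh.IsPerfect ((DCoh.restrictD V.ι).obj Q) → DCoh.IsPerfect ((DCoh.restrictD Z.ι).obj Q) := by
    refine fun Q h₁ h₂ => isPerfect_of_cover fun x => ?_
    rcases (x.2 : x.1 ∈ S ⊔ V) with hx | hx
    · exact ⟨_, X.homOfLE (le_sup_left : S ≤ Z), inferInstance, ⟨x.1, hx⟩, Subtype.ext (by simp),
        Perfect.Triangle.isPerfect_of_iso ((compIso' _ _ (X.homOfLE_ι _)).app _).symm h₁⟩
    · exact ⟨_, X.homOfLE (le_sup_right : V ≤ Z), inferInstance, ⟨x.1, hx⟩, Subtype.ext (by simp),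
        Perfect.Triangle.isPerfect_of_iso ((compIso' _ _ (X.homOfLE_ι _)).app _).symm h₂⟩
  refine ⟨R ⊞ J, hZperf _ (hbip S hRS (Generator.isPerfect_of_isZero hJS.isZero))
    (hbip V hRV (Perfect.Triangle.isPerfect_of_iso (asIso ((adjEz V.ι).unit.app K)) hK)),
    fun E hE hhom => ?_⟩
  -- split the hypothesis
  have hR : ∀ᶠ n in l, Hv ((DCoh.restrictD Z.ι).obj R) ((DCoh.restrictD Z.ι).obj E) n :=
    hhom.mono fun n hn φ => by
      calc φ = (DCoh.restrictD Z.ι).map (biprod.inl : R ⟶ R ⊞ J) ≫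
          (DCoh.restrictD Z.ι).map (biprod.fst : R ⊞ J ⟶ R) ≫ φ := by
            rw [← Functor.map_comp_assoc, biprod.inl_fst, CategoryTheory.Functor.map_id, Category.id_comp]
        _ = 0 := by rw [hn ((DCoh.restrictD Z.ι).map biprod.fst ≫ φ), comp_zero]
  have hJ : ∀ᶠ n in l, Hv ((DCoh.restrictD Z.ι).obj J) ((DCoh.restrictD Z.ι).obj E) n :=
    hhom.mono fun n hn φ => by
      calc φ = (DCoh.restrictD Z.ι).map (biprod.inr : J ⟶ R ⊞ J) ≫
          (DCoh.restrictD Z.ι).map (biprod.snd : R ⊞ J ⟶ J) ≫ φ := by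
            rw [← Functor.map_comp_assoc, biprod.inr_snd, CategoryTheory.Functor.map_id, Category.id_comp]
        _ = 0 := by rw [hn ((DCoh.restrictD Z.ι).map biprod.snd ≫ φ), comp_zero]
  let FV := DCoh.restrictD V.ι
  have hKE : ∀ᶠ n in l, Hv K (FV.obj E) n := hJ.mono fun n hn ψ => by
    apply (cancel_mono ((FV.commShiftIso n).inv.app E)).1
    rw [zero_comp]
    let ψ' := ((adjEz V.ι).homEquiv _ _).symm (ψ ≫ (FV.commShiftIso n).inv.app E)
    have h1 : FV.map ψ' = 0 := hv_le (le_sup_right : V ≤ Z) n ψ' hn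
    calc ψ ≫ (FV.commShiftIso n).inv.app E = (adjEz V.ι).unit.app K ≫ FV.map ψ' :=
          ((Adjunction.homEquiv_unit ..).symm.trans
            (((adjEz V.ι).homEquiv K (E⟦n⟧)).apply_symm_apply _)).symm
      _ = 0 := by rw [h1, comp_zero]
  let η := unit S.ι E
  obtain ⟨C, g, δ, hT⟩ := distinguished_cocone_triangle η
  let G := (DCoh.Rpush S.ι).obj ((DCoh.restrictD S.ι).obj E)
  have hCS : Van S C := (isIso_restrict_iff hT).1 (isIso_restrict_unit S.ι _)
  have hGq : DCoh.IsQCohD G :=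
    RpushQCoh.isQCohD_Rpush S.ι _ (CompactUnit.isQCohD_restrictD _ hE)
  have hCq : DCoh.IsQCohD C := TildeEquiv.isQCohD_mor₃ _ hT hE hGq
  have hKG : ∀ n, Hv K (FV.obj G) n := fun n ψ => by
    apply (cancel_mono ((FV.commShiftIso n).inv.app G)).1
    rw [zero_comp]
    apply ((adjEz V.ι).homEquiv _ _).symm.injective
    have h0 := OpenImm.eq_zero_of_isZero_restrict S.ι (van_ez V S hKS).isZero
      (((DCoh.Rpush S.ι).commShiftIso n).app ((DCoh.restrictD S.ι).obj E)).symm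
      (((adjEz V.ι).homEquiv _ _).symm (ψ ≫ (FV.commShiftIso n).inv.app G))
    refine h0.trans ?_
    simp [Adjunction.homEquiv_counit]
  -- the cone is eventually zero on `Z`
  have hCV : ∀ᶠ n in l, IsZero (DCoh.HD (FV.obj C) n) := by
    refine ((hl 1).eventually hKE).mono fun n hn => ?_
    refine hKd _ (CompactUnit.isQCohD_restrictD _ hCq) ?_ n
      (hv₃ (FV.map_distinguished _ hT) (hKG n) hn)
    rw [van_restrict_iff, Scheme.Hom.image_preimage_eq_opensRange_inf, Scheme.Opens.opensRange_ι]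
    exact hCS.mono inf_le_right
  have hC : Zd l Z C := (zd_of_van hCS).sup ((zd_ι l V C).1 hCV)
  -- hence maps from `R` to `Rj_*(E|_S)` vanish
  haveI : CompactSpace (Z : Scheme.{u}) := isCompact_iff_compactSpace.1
    (by rw [TopologicalSpace.Opens.coe_sup]; exact hS.union hV.isCompact)
  haveI : QuasiSeparatedSpace (Z : Scheme.{u}) :=
    QuasiSeparatedSpace.of_isOpenEmbedding Z.ι.isOpenEmbedding
  let FZ := DCoh.restrictD Z.ι
  have hRC : ∀ᶠ n in l, Hv (FZ.obj R) (FZ.obj C) n :=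
    hv_eventually hl (hZperf R hRS hRV) (CompactUnit.isQCohD_restrictD _ hCq) ((zd_ι l Z C).2 hC)
  have hRG : ∀ᶠ n in l, Hv (FZ.obj R) (FZ.obj G) n := (hR.and hRC).mono fun n hn =>
    hv₂ (FZ.map_distinguished _ hT) hn.1 hn.2
  have hES : Zd l S E := by
    refine hdet E hE (hRG.mono fun n hn φ₀ => ?_)
    let φ := p ≫ φ₀ ≫ ((DCoh.restrictD S.ι).commShiftIso n).inv.app E
    suffices hφ : φ = 0 by
      apply (cancel_mono (((DCoh.restrictD S.ι).commShiftIso n).inv.app E)).1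
      rw [zero_comp]
      calc φ₀ ≫ ((DCoh.restrictD S.ι).commShiftIso n).inv.app E = i ≫ φ := by
            simp only [φ]; rw [← Category.assoc i p, hip, Category.id_comp]
        _ = 0 := by rw [hφ, comp_zero]
    let c : (DCoh.restrictD S.ι).obj (E⟦n⟧) ≅ ((DCoh.restrictD S.ι).obj E)⟦n⟧ :=
      ((DCoh.restrictD S.ι).commShiftIso n).app E
    let c' := (DCoh.Rpush S.ι).mapIso c ≪≫ ((DCoh.Rpush S.ι).commShiftIso n).app _
    let σ := (OpenImm.restrictPushAdj S.ι).homEquiv _ _ φ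
    have h1 : (DCoh.restrictD S.ι).map (σ ≫ c'.hom) = 0 :=
      hv_le (le_sup_left : S ≤ Z) (E := G) n (σ ≫ c'.hom) hn
    have h2 : (DCoh.restrictD S.ι).map σ = 0 := by
      rw [Functor.map_comp] at h1
      exact (cancel_mono ((DCoh.restrictD S.ι).map c'.hom)).1 (h1.trans zero_comp.symm)
    calc φ = (DCoh.restrictD S.ι).map σ ≫ (OpenImm.restrictPushAdj S.ι).counit.app _ :=
          ((Adjunction.homEquiv_counit ..).symm.trans (Equiv.symm_apply_apply _ φ)).symm
      _ = 0 := by rw [h2, zero_comp]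
  have hG : Zd l Z G := by
    refine (zd_ι l Z G).1 ?_
    have := hpush S hS _ (CompactUnit.isQCohD_restrictD _ hE) ((zd_ι l S E).2 hES)
    exact this.mono fun n hn => ((Scheme.Modules.restrictFunctor Z.ι).map_isZero hn).of_iso
      (Perfect.Coherent.homologyIso Z.ι G n)
  exact zd₂ (inv_rot_of_distTriang _ hT) (zd_shift hl hC (-1)) hG

theorem det {l : Filter ℤ} (hl : ShiftInv l) (hpush : PushZd l X) (S : X.Opens)
    (hS : IsCompact (S : Set X)) : Det l S := by
  refine compact_open_induction_on (P := fun S : X.Opens => Det l S) S hS ?_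
    fun S hS V ih => det_sup hl hpush hS V.2 ih
  haveI : IsEmpty ((⊥ : X.Opens) : Scheme.{u}) := ⟨fun x => x.2.elim⟩
  exact ⟨CompactUnit.oneD X, isPerfect_of_isEmpty _, fun E _ _ => zd_of_van (van_bot E)⟩

/-- A perfect object detecting eventual vanishing of cohomology. -/
theorem exists_detecting {l : Filter ℤ} (hl : ShiftInv l) (hpush : PushZd l X) :
    ∃ P : DCoh.D X, DCoh.IsPerfect P ∧ ∀ E : DCoh.D X, DCoh.IsQCohD E →
      (∀ᶠ i in l, Hv P E i) → ∀ᶠ i in l, IsZero (DCoh.HD E i) := by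
  obtain ⟨P, hP, hd⟩ := det hl hpush ⊤ isCompact_univ
  refine ⟨P, isPerfect_of_cover fun x => ⟨_, (⊤ : X.Opens).ι, inferInstance, ⟨x, trivial⟩, rfl, hP⟩,
    fun E hE h => ?_⟩
  haveI : IsIso (⊤ : X.Opens).ι := inferInstanceAs (IsIso X.topIso.hom)
  refine Filter.Eventually.mono (hd E hE (h.mono fun i hi φ => ?_)) fun i hi => ?_
  · obtain ⟨ψ, hψ⟩ := (DCoh.restrictD (⊤ : X.Opens).ι).map_surjective
      (φ ≫ ((DCoh.restrictD (⊤ : X.Opens).ι).commShiftIso i).inv.app E)
    rw [hi ψ, Functor.map_zero] at hψ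
    exact (cancel_mono (((DCoh.restrictD (⊤ : X.Opens).ι).commShiftIso i).inv.app E)).1
      (hψ.symm.trans zero_comp.symm)
  · exact Modules.Support.support_eq_empty_iff.1
      (Set.eq_empty_of_forall_notMem fun x => hi x trivial)

end Groth.Agent.Lib.GenBdd
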